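import Cfsg.Agent.Lib.PCore.PSolvable

/-!
# A Sylow `p`-subgroup normalising a Sylow `q`-subgroup
-/

set_option autoImplicit false
set_option linter.style.haveILetI false

namespace CfsgLib.SylowNormalizes

open Cfsg

variable {G : Type*} [Group G] [Finite G] {p q : ℕ} [Fact p.Prime] [Fact q.Prime]

/-- Some Sylow `p`-subgroup normalises some Sylow `q`-subgroup. -/
def Goal (p q : ℕ) (G : Type*) [Group G] : Prop :=
  ∃ (P : Sylow p G) (Q : Sylow q G), (P : Subgroup G) ≤ Subgroup.normalizer ((Q : Subgroup G) : Set G)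

/-- Fixed-point argument on the Sylow `q`-subgroups of a subgroup `K`. -/
theorem exists_of_card_sylow (P : Sylow p G) (K : Subgroup G)
    (hPK : (P : Subgroup G) ≤ Subgroup.normalizer (K : Set G))
    (hK : ∃ Q : Sylow q G, (Q : Subgroup G) ≤ K) (hn : ¬ p ∣ Nat.card (Sylow q K)) :
    Goal p q G := by
  classical
  let conjK : P → (K ≃* K) := fun u =>
    { toFun := fun x => ⟨(u : G) * x * (u : G)⁻¹,
        (Subgroup.mem_normalizer_iff.1 (hPK u.2) x).1 x.2⟩
      invFun := fun x => ⟨(u : G)⁻¹ * x * u,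
        (Subgroup.mem_normalizer_iff''.1 (hPK u.2) x).1 x.2⟩
      left_inv := fun x => Subtype.ext (by simp [mul_assoc])
      right_inv := fun x => Subtype.ext (by simp [mul_assoc])
      map_mul' := fun x y => Subtype.ext (by simp [mul_assoc]) }
  let phi : P →* MulAut K :=
    { toFun := conjK
      map_one' := by ext x; simp [conjK]
      map_mul' := fun u v => by ext x; simp [conjK, mul_assoc] }
  letI : MulAction P (Sylow q K) := MulAction.compHom _ phi
  obtain ⟨Q₀, hQ₀⟩ := P.isPGroup'.nonempty_fixed_point_of_prime_not_dvd_card (Sylow q K) hn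
  obtain ⟨Q, hQK⟩ := hK
  have hcard : Nat.card ((Q₀ : Subgroup K).map K.subtype) = q ^ (Nat.card G).factorization q := by
    rw [Subgroup.card_map_of_injective K.subtype_injective, Q₀.card_eq_multiplicity]
    congr 1
    refine le_antisymm ?_ ?_
    · exact (Nat.factorization_le_iff_dvd Nat.card_pos.ne' Nat.card_pos.ne').2
        (Subgroup.card_subgroup_dvd_card K) q
    · have := (Nat.factorization_le_iff_dvd Nat.card_pos.ne' Nat.card_pos.ne').2
        (Subgroup.card_dvd_of_le hQK) q
      rwa [Q.card_eq_multiplicity, Nat.Prime.factorization_pow (Fact.out : q.Prime),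
        Finsupp.single_eq_same] at this
  refine ⟨P, Sylow.ofCard _ hcard, fun u hu => ?_⟩
  rw [Sylow.coe_ofCard]
  have hfix : (⟨u, hu⟩ : P) • Q₀ = Q₀ := hQ₀ ⟨u, hu⟩
  have key : ∀ v : P, ∀ x ∈ (Q₀ : Subgroup K).map K.subtype,
      (v : G) * x * (v : G)⁻¹ ∈ (Q₀ : Subgroup K).map K.subtype := by
    rintro v _ ⟨x, hx, rfl⟩
    have hv : v • Q₀ = Q₀ := hQ₀ v
    refine ⟨phi v x, ?_, rfl⟩
    rw [← hv]
    exact Subgroup.smul_mem_pointwise_smul x (phi v) _ hx
  rw [Subgroup.mem_normalizer_iff]
  intro x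
  refine ⟨key ⟨u, hu⟩ x, fun hx => ?_⟩
  have := key ⟨u, hu⟩⁻¹ _ hx
  simpa [mul_assoc] using this

theorem goal_of_pPrime (K : Subgroup G) [K.Normal] (hK : ¬ q ∣ K.index)
    (hp : ¬ p ∣ Nat.card (Sylow q K)) : Goal p q G := by
  refine exists_of_card_sylow default K (by rw [Subgroup.normalizer_eq_top]; exact le_top) ?_ hp
  obtain ⟨Q⟩ : Nonempty (Sylow q G) := inferInstance
  refine ⟨Q, ?_⟩
  intro x hx
  rw [← QuotientGroup.eq_one_iff]
  obtain ⟨n, hn⟩ := Q.isPGroup' ⟨x, hx⟩
  have h2 : orderOf (x : G ⧸ K) ∣ q ^ n := orderOf_dvd_of_pow_eq_one (by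
    have := congrArg Subtype.val hn
    rw [SubmonoidClass.coe_pow, OneMemClass.coe_one] at this
    rw [← QuotientGroup.mk_pow, this, QuotientGroup.mk_one])
  have h3 : orderOf (x : G ⧸ K) ∣ K.index := orderOf_dvd_natCard _
  rw [← orderOf_eq_one_iff]
  exact Nat.eq_one_of_dvd_coprimes
    (Nat.Coprime.pow_left n (((Fact.out : q.Prime).coprime_iff_not_dvd).2 hK)) h2 h3

/-- `p`-solvable groups: the criterion. -/
theorem goal_iff (hpq : p ≠ q) (hs : IsPSolvable p G) :
    Goal p q G ↔ ¬ q ∣ (pPrimeCore p G).index := by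
  haveI : (pPrimeCore p G).Normal := pPrimeCore_normal p G
  constructor
  · rintro ⟨P, Q, hPQ⟩ hdvd
    set K := pPrimeCore p G with hK
    set f := QuotientGroup.mk' K
    have hf : Function.Surjective f := QuotientGroup.mk'_surjective K
    set Pb := P.mapSurjective hf
    set Qb := Q.mapSurjective hf
    have hR := PCore.pCore_le_sylow Pb
    have hsb := PCore.centralizer_pCore_le (PCore.isPSolvable_quotient hs K)
      PCore.pPrimeCore_quotient_pPrimeCore
    set R := pCore p (G ⧸ K)
    haveI : R.Normal := pCore_normal p _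
    have hPQb : (Pb : Subgroup (G ⧸ K)) ≤ Subgroup.normalizer ((Qb : Subgroup (G ⧸ K)) : Set _) := by
      rw [Sylow.coe_mapSurjective, Sylow.coe_mapSurjective]
      exact (Subgroup.map_mono hPQ).trans (Subgroup.le_normalizer_map f)
    have hQR : (Qb : Subgroup (G ⧸ K)) ≤ Subgroup.centralizer (R : Set (G ⧸ K)) := by
      intro y hy
      rw [Subgroup.mem_centralizer_iff]
      intro r hr
      have h1 : r * y * r⁻¹ * y⁻¹ ∈ (Qb : Subgroup (G ⧸ K)) :=
        mul_mem ((Subgroup.mem_normalizer_iff.1 (hPQb (hR hr)) y).1 hy) (inv_mem hy)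
      have h2 : r * y * r⁻¹ * y⁻¹ ∈ R := by
        rw [show r * y * r⁻¹ * y⁻¹ = r * (y * r⁻¹ * y⁻¹) by group]
        exact mul_mem hr (Subgroup.Normal.conj_mem inferInstance _ (inv_mem hr) y)
      have h3 := (PCore.inf_eq_bot_of_isPGroup_coprime (p := p) (A := R) (B := (Qb : Subgroup _))
        PCore.pCore_isPGroup ?_).le ⟨h2, h1⟩
      · rw [Subgroup.mem_bot] at h3
        have := congrArg (· * y) h3
        simp only [inv_mul_cancel_right, one_mul] at this
        exact mul_inv_eq_iff_eq_mul.1 this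
      · obtain ⟨n, hn⟩ := IsPGroup.iff_card.1 Qb.isPGroup'
        rw [hn]
        exact Nat.Coprime.pow_left n ((Nat.coprime_primes Fact.out Fact.out).2 hpq.symm)
    have h4 : (Qb : Subgroup (G ⧸ K)) ≤ R := hQR.trans hsb
    have h5 : (Qb : Subgroup (G ⧸ K)) = ⊥ := by
      refine le_bot_iff.1 (le_trans (le_inf h4 le_rfl)
        (le_of_eq (PCore.inf_eq_bot_of_isPGroup_coprime PCore.pCore_isPGroup ?_)))
      obtain ⟨n, hn⟩ := IsPGroup.iff_card.1 Qb.isPGroup'
      rw [hn]
      exact Nat.Coprime.pow_left n ((Nat.coprime_primes Fact.out Fact.out).2 hpq.symm)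
    refine Qb.not_dvd_index ?_
    rw [h5, Subgroup.index_bot]
    exact hdvd
  · intro h
    refine goal_of_pPrime (pPrimeCore p G) h fun hd => ?_
    obtain ⟨Q⟩ : Nonempty (Sylow q (pPrimeCore p G)) := inferInstance
    rw [Q.card_eq_index_normalizer] at hd
    exact PCore.not_dvd_card_pPrimeCore (hd.trans (Subgroup.index_dvd_card _))

/-- The class-size hypothesis. -/
def ClassHyp (p q : ℕ) (G : Type*) [Group G] : Prop :=
  ∀ y : G, (∃ k : ℕ, orderOf y = q ^ k) → ¬ p ∣ (Subgroup.centralizer ({y} : Set G)).index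

omit [Finite G] [Fact p.Prime] [Fact q.Prime] in
theorem map_centralizer_singleton_le {H : Type*} [Group H] (f : G →* H) (y : G) :
    (Subgroup.centralizer ({y} : Set G)).map f ≤ Subgroup.centralizer ({f y} : Set H) := by
  rintro _ ⟨c, hc, rfl⟩
  rw [Subgroup.mem_centralizer_iff]
  rintro _ rfl
  rw [← map_mul, ← map_mul, Subgroup.mem_centralizer_iff.1 hc y rfl]

omit [Fact p.Prime] in
theorem ClassHyp.quotient (h : ClassHyp p q G) (N : Subgroup G) [N.Normal] :
    ClassHyp p q (G ⧸ N) := by
  intro yb hy hd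
  obtain ⟨k, hk⟩ := hy
  obtain ⟨y, rfl⟩ := QuotientGroup.mk_surjective yb
  -- replace `y` by its `q`-part
  obtain ⟨a, m, hqm, ham⟩ := Nat.exists_eq_pow_mul_and_not_dvd (orderOf_pos y).ne' q
    (Fact.out : q.Prime).ne_one
  have hmdvd : orderOf (y ^ m) ∣ q ^ a := orderOf_dvd_of_pow_eq_one (by
    rw [← pow_mul, mul_comm, ← ham, pow_orderOf_eq_one])
  obtain ⟨j, -, hj⟩ := (Nat.dvd_prime_pow (Fact.out : q.Prime)).1 hmdvd
  have hcop : (orderOf ((y : G) : G ⧸ N)).Coprime m := by
    rw [hk]
    exact Nat.Coprime.pow_left k (((Fact.out : q.Prime).coprime_iff_not_dvd).2 hqm)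
  obtain ⟨t, ht⟩ := exists_pow_eq_self_of_coprime hcop.symm
  set y' := (y ^ m) ^ t
  have hy' : ((y' : G) : G ⧸ N) = (y : G ⧸ N) := by
    simp only [y', QuotientGroup.mk_pow]
    exact ht
  have hy'ord : ∃ i, orderOf y' = q ^ i := by
    have : orderOf y' ∣ q ^ j := hj ▸ orderOf_pow_dvd t
    obtain ⟨i, -, hi⟩ := (Nat.dvd_prime_pow (Fact.out : q.Prime)).1 this
    exact ⟨i, hi⟩
  refine h y' hy'ord (hd.trans ?_)
  calc (Subgroup.centralizer ({((y : G) : G ⧸ N)} : Set (G ⧸ N))).index
      ∣ ((Subgroup.centralizer ({y'} : Set G)).map (QuotientGroup.mk' N)).index := by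
        rw [← hy']
        exact Subgroup.index_dvd_of_le (map_centralizer_singleton_le _ _)
    _ ∣ (Subgroup.centralizer ({y'} : Set G)).index :=
        Subgroup.index_map_dvd _ (QuotientGroup.mk'_surjective N)

/-- The `p`-solvable case. -/
theorem goal_of_pSolvable (hpq : p ≠ q) (hs : IsPSolvable p G) (h : ClassHyp p q G) :
    Goal p q G := by
  haveI : (pPrimeCore p G).Normal := pPrimeCore_normal p G
  rw [goal_iff hpq hs]
  intro hdvd
  set K := pPrimeCore p G
  set R := pCore p (G ⧸ K)
  haveI : R.Normal := pCore_normal p _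
  obtain ⟨y, hy⟩ := exists_prime_orderOf_dvd_card' (G := G ⧸ K) q hdvd
  have hC := h.quotient K y ⟨1, by rw [hy, pow_one]⟩
  have hle : R ≤ Subgroup.centralizer ({y} : Set (G ⧸ K)) := by
    obtain ⟨S⟩ : Nonempty (Sylow p (Subgroup.centralizer ({y} : Set (G ⧸ K)))) := inferInstance
    set S' := (S : Subgroup _).map (Subgroup.centralizer ({y} : Set (G ⧸ K))).subtype
    have hcard : Nat.card S' = p ^ (Nat.card (G ⧸ K)).factorization p := by
      rw [Subgroup.card_map_of_injective (Subgroup.subtype_injective _), S.card_eq_multiplicity]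
      congr 1
      conv_rhs => rw [← (Subgroup.centralizer ({y} : Set (G ⧸ K))).card_mul_index]
      rw [Nat.factorization_mul Nat.card_pos.ne' Subgroup.index_ne_zero_of_finite,
        Finsupp.add_apply, Nat.factorization_eq_zero_of_not_dvd hC, add_zero]
    have := PCore.pCore_le_sylow (Sylow.ofCard S' hcard)
    rw [Sylow.coe_ofCard] at this
    exact this.trans (Subgroup.map_subtype_le _)
  have hyR : y ∈ R := by
    refine PCore.centralizer_pCore_le (PCore.isPSolvable_quotient hs K)
      PCore.pPrimeCore_quotient_pPrimeCore ?_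
    rw [Subgroup.mem_centralizer_iff]
    intro r hr
    exact (Subgroup.mem_centralizer_iff.1 (hle hr) y rfl).symm
  obtain ⟨n, hn⟩ := (PCore.pCore_isPGroup (p := p) (G := G ⧸ K)) ⟨y, hyR⟩
  have : q ∣ p ^ n := by
    rw [← hy]
    refine orderOf_dvd_of_pow_eq_one ?_
    have := congrArg Subtype.val hn
    simpa using this
  exact hpq ((Nat.prime_dvd_prime_iff_eq Fact.out Fact.out).1
    ((Fact.out : q.Prime).dvd_of_dvd_pow this)).symm

/-- The preimage step. -/
theorem goal_of_quotient (N : Subgroup G) [N.Normal] (hg : Goal p q (G ⧸ N))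
    (hn : ∀ Q : Sylow q G, ¬ p ∣ Nat.card (Sylow q ((Q : Subgroup G) ⊔ N : Subgroup G))) :
    Goal p q G := by
  obtain ⟨Pb, Qb, hPQ⟩ := hg
  have hf := QuotientGroup.mk'_surjective N
  obtain ⟨P, rfl⟩ := Sylow.mapSurjective_surjective hf p Pb
  obtain ⟨Q, rfl⟩ := Sylow.mapSurjective_surjective hf q Qb
  refine exists_of_card_sylow P ((Q : Subgroup G) ⊔ N) (fun u hu => ?_) ⟨Q, le_sup_left⟩ (hn Q)
  have hu' : (QuotientGroup.mk' N) u ∈
      Subgroup.normalizer ((Q : Subgroup G).map (QuotientGroup.mk' N) : Set (G ⧸ N)) := by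
    have := hPQ (show (QuotientGroup.mk' N) u ∈ (P.mapSurjective hf : Subgroup (G ⧸ N)) by
      rw [Sylow.coe_mapSurjective]; exact Subgroup.mem_map_of_mem _ hu)
    rwa [Sylow.coe_mapSurjective] at this
  have hcm : ((Q : Subgroup G).map (QuotientGroup.mk' N)).comap (QuotientGroup.mk' N) =
      (Q : Subgroup G) ⊔ N := by rw [Subgroup.comap_map_eq, QuotientGroup.ker_mk']
  rw [← hcm, Subgroup.mem_normalizer_iff]
  intro x
  simp only [Subgroup.mem_comap, map_mul, map_inv]
  exact Subgroup.mem_normalizer_iff.1 hu' _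

omit [Fact p.Prime] [Fact q.Prime] in
theorem relIndex_dvd_index_of_normal_right (C N : Subgroup G) [N.Normal] :
    C.relIndex N ∣ C.index := by
  have h1 := Subgroup.relIndex_mul_index (inf_le_left : C ⊓ N ≤ C)
  have h2 := Subgroup.relIndex_mul_index (inf_le_right : C ⊓ N ≤ N)
  rw [Subgroup.inf_relIndex_right] at h2
  rw [Subgroup.inf_relIndex_left] at h1
  obtain ⟨r, hr⟩ := Subgroup.relIndex_dvd_index_of_normal N C
  refine ⟨r, Nat.eq_of_mul_eq_mul_left (n := N.relIndex C)
    (Nat.pos_of_ne_zero (Subgroup.index_ne_zero_of_finite (H := N.subgroupOf C))) ?_⟩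
  rw [h1, ← h2, hr]; ring

open scoped Pointwise in
/-- Each element of a `q`-group of class size prime to `p` centralises an invariant Sylow
`p`-subgroup of a normal subgroup of order prime to `q`. -/
theorem not_dvd_card_sylow_sup (hpq : p ≠ q) (h : ClassHyp p q G) (N : Subgroup G) [N.Normal]
    (hN : ¬ q ∣ Nat.card N) (Q : Sylow q G) :
    ¬ p ∣ Nat.card (Sylow q ((Q : Subgroup G) ⊔ N : Subgroup G)) := by
  classical
  letI : MulAction (Q : Subgroup G) (Sylow p N) :=
    MulAction.compHom _ ((MulAut.conjNormal : G →* MulAut N).comp (Q : Subgroup G).subtype)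
  have hndvd : ¬ q ∣ Nat.card (Sylow p N) := by
    intro hd
    obtain ⟨S⟩ : Nonempty (Sylow p N) := inferInstance
    rw [S.card_eq_index_normalizer] at hd
    exact hN (hd.trans (Subgroup.index_dvd_card _))
  obtain ⟨S, hS⟩ := Q.isPGroup'.nonempty_fixed_point_of_prime_not_dvd_card (Sylow p N) hndvd
  set W := (S : Subgroup N).map N.subtype with hW
  -- each element of `Q` centralises `W`
  have hcent : ∀ y ∈ (Q : Subgroup G), W ≤ Subgroup.centralizer ({y} : Set G) := by
    intro y hy
    have hy' : ∃ k, orderOf y = q ^ k := by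
      obtain ⟨k, hk⟩ := IsPGroup.iff_orderOf.1 Q.isPGroup' ⟨y, hy⟩
      exact ⟨k, by rwa [Subgroup.orderOf_mk] at hk⟩
    have hC := h y hy'
    obtain ⟨S₀⟩ : Nonempty (Sylow p ((Subgroup.centralizer ({y} : Set G)).subgroupOf N)) :=
      inferInstance
    set L := (Subgroup.centralizer ({y} : Set G)).subgroupOf N
    have hLi : ¬ p ∣ L.index := by
      intro hd
      exact hC (hd.trans (relIndex_dvd_index_of_normal_right (Subgroup.centralizer ({y} : Set G)) N))
    have hcard : Nat.card ((S₀ : Subgroup L).map L.subtype) = p ^ (Nat.card N).factorization p := by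
      rw [Subgroup.card_map_of_injective (Subgroup.subtype_injective _), S₀.card_eq_multiplicity]
      congr 1
      conv_rhs => rw [← L.card_mul_index]
      rw [Nat.factorization_mul Nat.card_pos.ne' Subgroup.index_ne_zero_of_finite,
        Finsupp.add_apply, Nat.factorization_eq_zero_of_not_dvd hLi, add_zero]
    set S' : Sylow p N := Sylow.ofCard _ hcard
    have hS'L : (S' : Subgroup N) ≤ L := by
      rw [Sylow.coe_ofCard]; exact Subgroup.map_subtype_le _
    -- the elements of `N` carrying `S'` to `S`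
    let Om : Set N := {n | n • S' = S}
    let Y : Subgroup G := Subgroup.zpowers y
    have hYQ : Y ≤ (Q : Subgroup G) := Subgroup.zpowers_le.2 hy
    have hfixS' : ∀ u ∈ Y, ∀ x ∈ (S' : Subgroup N), MulAut.conjNormal u x = x := by
      intro u hu x hx
      have hxy := Subgroup.mem_centralizer_iff.1 (Subgroup.mem_subgroupOf.1 (hS'L hx)) y rfl
      obtain ⟨m, rfl⟩ := Subgroup.mem_zpowers_iff.1 hu
      refine Subtype.ext ?_
      rw [MulAut.conjNormal_apply, (Commute.zpow_left hxy m).eq, mul_inv_cancel_right]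
    have hOm : ∀ u : Y, ∀ n : N, n ∈ Om → MulAut.conjNormal (u : G) n ∈ Om := by
      intro u n hn
      have hn' : n • S' = S := hn
      change MulAut.conjNormal (u : G) n • S' = S
      have hSfix : (MulAut.conjNormal (u : G) : MulAut N) • S = S := hS ⟨u, hYQ u.2⟩
      apply Sylow.ext
      rw [Sylow.coe_subgroup_smul]
      have hSu : (S : Subgroup N) = (MulAut.conjNormal (u : G) : MulAut N) • (S : Subgroup N) := by
        conv_lhs => rw [← hSfix]
        rfl
      rw [hSu, ← hn', Sylow.coe_subgroup_smul]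
      ext z
      simp only [Subgroup.mem_pointwise_smul_iff_inv_smul_mem]
      constructor
      · intro hz
        have := hfixS' _ (Y.inv_mem u.2) _ hz
        rw [← this] at hz
        simpa [MulAut.smul_def, mul_assoc] using hz
      · intro hz
        have := hfixS' _ u.2 _ hz
        rw [← this] at hz
        simpa [MulAut.smul_def, mul_assoc] using hz
    letI : MulAction Y Om :=
      { smul := fun u n => ⟨MulAut.conjNormal (u : G) n.1, hOm u n.1 n.2⟩
        one_smul := fun n => Subtype.ext (by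
          change MulAut.conjNormal ((1 : Y) : G) n.1 = n.1
          simp)
        mul_smul := fun u v n => Subtype.ext (by
          change MulAut.conjNormal ((u * v : Y) : G) n.1 = MulAut.conjNormal (u : G) (MulAut.conjNormal (v : G) n.1)
          simp) }
    obtain ⟨n₀, hn₀⟩ := MulAction.exists_smul_eq N S' S
    have hOmcard : Nat.card Om = Nat.card (MulAction.stabilizer N S') := by
      refine Nat.card_congr
        { toFun := fun n => ⟨n₀⁻¹ * n.1, by
            rw [MulAction.mem_stabilizer_iff, mul_smul, n.2, inv_smul_eq_iff]; exact hn₀.symm⟩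
          invFun := fun n => ⟨n₀ * n.1, by
            change (n₀ * n.1) • S' = S
            rw [mul_smul, MulAction.mem_stabilizer_iff.1 n.2]; exact hn₀⟩
          left_inv := fun n => Subtype.ext (by simp)
          right_inv := fun n => Subtype.ext (by simp) }
    have hnd : ¬ q ∣ Nat.card Om := by
      rw [hOmcard]; exact fun hd => hN (hd.trans (Subgroup.card_subgroup_dvd_card _))
    obtain ⟨n, hn⟩ :=
      (Q.isPGroup'.to_le hYQ).nonempty_fixed_point_of_prime_not_dvd_card Om hnd
    have hny : y * (n.1 : G) * y⁻¹ = (n.1 : G) := by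
      exact (MulAut.conjNormal_apply y n.1).symm.trans
        (congrArg (fun z : Om => ((z.1 : N) : G)) (hn ⟨y, Subgroup.mem_zpowers y⟩))
    rintro _ ⟨x, hx, rfl⟩
    have hnS : n.1 • S' = S := n.2
    rw [← hnS] at hx
    obtain ⟨z, hz, rfl⟩ := hx
    rw [Subgroup.mem_centralizer_iff]
    intro y' hy'
    rw [Set.mem_singleton_iff] at hy'
    subst y'
    have hzy := Subgroup.mem_centralizer_iff.1 (Subgroup.mem_subgroupOf.1 (hS'L hz)) y rfl
    have hcn : Commute y (n.1 : G) := mul_inv_eq_iff_eq_mul.1 hny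
    have : Commute y ((n.1 : G) * z * (n.1 : G)⁻¹) := (hcn.mul_right hzy).mul_right hcn.inv_right
    simpa using this.eq
  -- conclude by counting
  intro hd
  set K := ((Q : Subgroup G) ⊔ N : Subgroup G)
  obtain ⟨Q₁⟩ : Nonempty (Sylow q K) := inferInstance
  set Q' : Sylow q K := Q.subtype le_sup_left
  rw [Q'.card_eq_index_normalizer] at hd
  have hWK : W ≤ K := (Subgroup.map_subtype_le _).trans le_sup_right
  have hWN : W.subgroupOf K ≤ Subgroup.normalizer ((Q' : Subgroup K) : Set K) := by
    intro w hw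
    rw [Subgroup.mem_normalizer_iff]
    intro x
    simp only [Q', Sylow.coe_subtype, Subgroup.mem_subgroupOf, Subgroup.coe_mul, Subgroup.coe_inv]
    constructor
    · intro hx
      have := Subgroup.mem_centralizer_iff.1 (hcent _ hx hw) _ rfl
      simp only [Subgroup.coe_subtype] at this
      rw [← this]
      simpa using hx
    · intro hx
      have h1 := Subgroup.mem_centralizer_iff.1 (hcent _ hx hw) _ rfl
      have h2 : (x : G) = (w : G) * x * (w : G)⁻¹ := by
        calc (x : G) = (w : G)⁻¹ * ((w : G) * x * (w : G)⁻¹ * w) := by group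
          _ = (w : G)⁻¹ * ((w : G) * ((w : G) * x * (w : G)⁻¹)) := by
            simp only [Subgroup.coe_subtype] at h1
            rw [h1]
          _ = _ := by group
      rw [h2]; exact hx
  have hd' : p ∣ (W.subgroupOf K).index := hd.trans (Subgroup.index_dvd_of_le hWN)
  have hKc : Nat.card K = N.relIndex (Q : Subgroup G) * Nat.card N := by
    rw [← Subgroup.relIndex_sup_right (H := (Q : Subgroup G)) (K := N), mul_comm,
      ← Nat.card_congr (Subgroup.subgroupOfEquivOfLe (le_sup_right : N ≤ K)).toEquiv]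
    exact ((N.subgroupOf K).card_mul_index).symm
  have hWc : Nat.card (W.subgroupOf K) = Nat.card W :=
    Nat.card_congr (Subgroup.subgroupOfEquivOfLe hWK).toEquiv
  have hSc : Nat.card W = p ^ (Nat.card N).factorization p := by
    rw [hW, Subgroup.card_map_of_injective (Subgroup.subtype_injective _), S.card_eq_multiplicity]
  have hrel : N.relIndex (Q : Subgroup G) ≠ 0 :=
    Subgroup.index_ne_zero_of_finite (H := N.subgroupOf (Q : Subgroup G))
  have hQp : (N.relIndex (Q : Subgroup G)).factorization p = 0 := by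
    refine Nat.factorization_eq_zero_of_not_dvd fun hd => ?_
    obtain ⟨n, hn⟩ := IsPGroup.iff_card.1 Q.isPGroup'
    have h2 := hd.trans (Subgroup.relIndex_dvd_card N (Q : Subgroup G))
    rw [hn] at h2
    exact hpq ((Nat.prime_dvd_prime_iff_eq Fact.out Fact.out).1
      ((Fact.out : p.Prime).dvd_of_dvd_pow h2))
  have hmul : (Nat.card (W.subgroupOf K) * (W.subgroupOf K).index).factorization p =
      (N.relIndex (Q : Subgroup G) * Nat.card N).factorization p := by
    rw [(W.subgroupOf K).card_mul_index.trans hKc]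
  rw [Nat.factorization_mul Nat.card_pos.ne' Subgroup.index_ne_zero_of_finite, Nat.factorization_mul
    hrel Nat.card_pos.ne', Finsupp.add_apply, Finsupp.add_apply, hQp, hWc, hSc,
    Nat.Prime.factorization_pow Fact.out, Finsupp.single_eq_same] at hmul
  have := (Fact.out : p.Prime).factorization_pos_of_dvd Subgroup.index_ne_zero_of_finite hd'
  omega

/-- The `q`-solvable case. -/
theorem goal_of_qSolvable (hpq : p ≠ q) (hs : IsPSolvable q G) (h : ClassHyp p q G) :
    Goal p q G := by
  suffices main : ∀ (n : ℕ) (H : Subgroup G) (N : Subgroup H) [N.Normal],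
      Nat.card (H ⧸ N) ≤ n → ClassHyp p q (H ⧸ N) → IsPSolvable q (H ⧸ N) →
      Goal p q (H ⧸ N) by
    have he := (QuotientGroup.quotientBot (G := (⊤ : Subgroup G))).trans Subgroup.topEquiv
    have hf : Function.Surjective he.toMonoidHom := he.surjective
    have hC : ClassHyp p q ((⊤ : Subgroup G) ⧸ (⊥ : Subgroup (⊤ : Subgroup G))) := by
      intro y hy hd
      obtain ⟨k, hk⟩ := hy
      refine h (he y) ⟨k, by rw [MulEquiv.orderOf_eq, hk]⟩ ?_
      convert hd using 1
      have : Subgroup.centralizer ({y} : Set _) =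
          (Subgroup.centralizer ({he y} : Set G)).comap he.toMonoidHom := by
        ext z
        simp only [Subgroup.mem_comap, Subgroup.mem_centralizer_iff, Set.mem_singleton_iff,
          forall_eq, MulEquiv.coe_toMonoidHom]
        exact ⟨fun hz => by rw [← map_mul, ← map_mul, hz],
          fun hz => he.injective (by rwa [map_mul, map_mul])⟩
      rw [this, Subgroup.index_comap_of_surjective _ hf]
    obtain ⟨P, Q, hPQ⟩ := main _ ⊤ ⊥ le_rfl hC (PCore.isPSolvable_of_equiv he.symm hs)
    refine ⟨P.mapSurjective hf, Q.mapSurjective hf, ?_⟩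
    rw [Sylow.coe_mapSurjective, Sylow.coe_mapSurjective]
    exact (Subgroup.map_mono hPQ).trans (Subgroup.le_normalizer_map _)
  intro n
  induction n with
  | zero => intro H N _ hc; exact absurd hc (by have := Nat.card_pos (α := H ⧸ N); omega)
  | succ n ih =>
    intro H N _ hc hC hS
    by_cases ht : Subsingleton (H ⧸ N)
    · exact ⟨default, default, fun u _ => by
        rw [Subsingleton.elim u 1]; exact one_mem _⟩
    rw [not_subsingleton_iff_nontrivial] at ht
    have step : ∀ M : Subgroup (H ⧸ N), ∀ [M.Normal], M ≠ ⊥ → Goal p q ((H ⧸ N) ⧸ M) := by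
      intro M _ hM
      set f := (QuotientGroup.mk' M).comp (QuotientGroup.mk' N)
      have hf : Function.Surjective f :=
        (QuotientGroup.mk'_surjective M).comp (QuotientGroup.mk'_surjective N)
      have he := QuotientGroup.quotientKerEquivOfSurjective f hf
      have hcard : Nat.card (H ⧸ f.ker) ≤ n := by
        rw [Nat.card_congr he.toEquiv]
        have h1 := Subgroup.card_eq_card_quotient_mul_card_subgroup M
        have h2 : 1 < Nat.card M := M.one_lt_card_iff_ne_bot.2 hM
        have h3 : 0 < Nat.card ((H ⧸ N) ⧸ M) := Nat.card_pos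
        have h4 : Nat.card ((H ⧸ N) ⧸ M) * 2 ≤ Nat.card ((H ⧸ N) ⧸ M) * Nat.card M :=
          Nat.mul_le_mul_left _ h2
        omega
      have hC' : ClassHyp p q (H ⧸ f.ker) := by
        intro y hy hd
        obtain ⟨k, hk⟩ := hy
        refine hC.quotient M (he y) ⟨k, by rw [MulEquiv.orderOf_eq, hk]⟩ (hd.trans ?_)
        have : Subgroup.centralizer ({y} : Set _) =
            (Subgroup.centralizer ({he y} : Set _)).comap he.toMonoidHom := by
          ext z
          simp only [Subgroup.mem_comap, Subgroup.mem_centralizer_iff, Set.mem_singleton_iff,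
            forall_eq, MulEquiv.coe_toMonoidHom]
          exact ⟨fun hz => by rw [← map_mul, ← map_mul, hz],
            fun hz => he.injective (by rwa [map_mul, map_mul])⟩
        rw [this, Subgroup.index_comap_of_surjective]
        exact he.surjective
      obtain ⟨P, Q, hPQ⟩ := ih H f.ker hcard hC'
        (PCore.isPSolvable_of_equiv he.symm (PCore.isPSolvable_quotient hS M))
      have hsur : Function.Surjective he.toMonoidHom := he.surjective
      refine ⟨P.mapSurjective hsur, Q.mapSurjective hsur, ?_⟩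
      rw [Sylow.coe_mapSurjective, Sylow.coe_mapSurjective]
      exact (Subgroup.map_mono hPQ).trans (Subgroup.le_normalizer_map _)
    haveI := pCore_normal q (H ⧸ N)
    haveI := pPrimeCore_normal q (H ⧸ N)
    rcases PCore.pCore_ne_bot_or_pPrimeCore_ne_bot hS with hne | hne
    · refine goal_of_quotient (pCore q (H ⧸ N)) (step _ hne) fun Q => ?_
      have hQ : (Q : Subgroup (H ⧸ N)) ⊔ pCore q (H ⧸ N) = (Q : Subgroup (H ⧸ N)) :=
        sup_eq_left.2 (PCore.pCore_le_sylow Q)
      obtain ⟨S⟩ : Nonempty (Sylow q ((Q : Subgroup (H ⧸ N)) ⊔ pCore q (H ⧸ N) :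
        Subgroup (H ⧸ N))) := inferInstance
      have hpg : IsPGroup q ((Q : Subgroup (H ⧸ N)) ⊔ pCore q (H ⧸ N) : Subgroup (H ⧸ N)) := by
        rw [hQ]; exact Q.isPGroup'
      have hS : (S : Subgroup ((Q : Subgroup (H ⧸ N)) ⊔ pCore q (H ⧸ N) :
          Subgroup (H ⧸ N))) = ⊤ :=
        (S.is_maximal' (IsPGroup.to_subgroup hpg ⊤) le_top).symm
      have hn : Subgroup.normalizer (((S : Subgroup ((Q : Subgroup (H ⧸ N)) ⊔ pCore q (H ⧸ N) :
          Subgroup (H ⧸ N))) : Subgroup _) : Set ((Q : Subgroup (H ⧸ N)) ⊔ pCore q (H ⧸ N) :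
          Subgroup (H ⧸ N))) = ⊤ := by
        rw [hS]; exact Subgroup.normalizer_eq_top _
      rw [S.card_eq_index_normalizer]
      erw [hn]
      rw [Subgroup.index_top]
      exact (Fact.out : p.Prime).not_dvd_one
    · exact goal_of_quotient (pPrimeCore q (H ⧸ N)) (step _ hne) fun Q =>
        not_dvd_card_sylow_sup hpq hC _ PCore.not_dvd_card_pPrimeCore Q

end CfsgLib.SylowNormalizes
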